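import Cfsg.Agent.Lib.Spectrum.ModularRoot

/-!
The split extension of a sum of modules by an abelian group acting on the `j`-th one through a character
with values in a cyclic group of roots of unity, and the orders of its elements.
-/

set_option autoImplicit false

namespace Cfsg.Agent.CharModule

open Cfsg.Agent.ModularRoot

variable {T J : Type} [AddCommGroup T] (k : ℕ) (hk : 0 < k) (n : J → ℕ) (φ : J → T →+ ZMod k) (r : ℕ)

/-- The module. -/
abbrev Mod : Type := (j : J) → Fin r → RootRing (n j) k

/-- The `j`-th eigenvalue of `t`. -/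
noncomputable def eig (j : J) (t : T) : RootRing (n j) k :=
  AdjoinRoot.root (Polynomial.cyclotomic k (ZMod (n j))) ^ (φ j t).val

include hk in
theorem eig_add [NeZero k] (j : J) (s t : T) : eig k n φ j (s + t) = eig k n φ j s * eig k n φ j t := by
  unfold eig
  rw [map_add, ← pow_add, ZMod.val_add, ← pow_eq_pow_mod _ root_pow]

include hk in
theorem eig_zero (j : J) : eig k n φ j 0 = 1 := by
  have : NeZero k := ⟨hk.ne'⟩
  simp [eig]

theorem eig_of_eq_zero [NeZero k] {j : J} {t : T} (h : φ j t = 0) : eig k n φ j t = 1 := by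
  simp [eig, h]

include hk in
theorem isUnit_eig_sub_one (hco : ∀ j, Nat.Coprime k (n j)) {j : J} {t : T} (h : φ j t ≠ 0) :
    IsUnit (eig k n φ j t - 1) := by
  have : NeZero k := ⟨hk.ne'⟩
  refine isUnit_pow_sub_one hk (hco j) fun e => h ?_
  rw [← ZMod.val_eq_zero]
  exact Nat.eq_zero_of_dvd_of_lt e (ZMod.val_lt _)

include hk in
/-- The action of one element. -/
noncomputable def actAdd (t : T) : Mod k n r ≃+ Mod k n r where
  toFun v j i := eig k n φ j t * v j i
  invFun v j i := eig k n φ j (-t) * v j i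
  left_inv v := by
    have : NeZero k := ⟨hk.ne'⟩
    funext j i
    show eig k n φ j (-t) * (eig k n φ j t * v j i) = v j i
    rw [← mul_assoc, ← eig_add k hk, neg_add_cancel, eig_zero k hk, one_mul]
  right_inv v := by
    have : NeZero k := ⟨hk.ne'⟩
    funext j i
    show eig k n φ j t * (eig k n φ j (-t) * v j i) = v j i
    rw [← mul_assoc, ← eig_add k hk, add_neg_cancel, eig_zero k hk, one_mul]
  map_add' v w := by funext j i; exact mul_add _ _ _

/-- The action. -/
noncomputable def act : Multiplicative T →* MulAut (Multiplicative (Mod k n r)) where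
  toFun t := AddEquiv.toMultiplicative (actAdd k hk n φ r t.toAdd)
  map_one' := by
    have : NeZero k := ⟨hk.ne'⟩
    refine MulEquiv.ext fun v => ?_
    apply Multiplicative.toAdd.injective
    funext j i
    show eig k n φ j 0 * _ = _
    rw [eig_zero k hk, one_mul]
    rfl
  map_mul' s t := by
    have : NeZero k := ⟨hk.ne'⟩
    refine MulEquiv.ext fun v => ?_
    apply Multiplicative.toAdd.injective
    funext j i
    show eig k n φ j (s.toAdd + t.toAdd) * _ = _
    rw [eig_add k hk, mul_assoc]
    rfl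

/-- The split extension. -/
abbrev Ext : Type := Multiplicative (Mod k n r) ⋊[act k hk n φ r] Multiplicative T

theorem pow_left (g : Ext k hk n φ r) (m : ℕ) (j : J) (i : Fin r) :
    (g ^ m).left.toAdd j i = (∑ s ∈ Finset.range m, eig k n φ j g.right.toAdd ^ s) * g.left.toAdd j i := by
  have : NeZero k := ⟨hk.ne'⟩
  induction m with
  | zero => simp [SemidirectProduct.one_left]
  | succ m ih =>
    rw [pow_succ', SemidirectProduct.mul_left, toAdd_mul, Pi.add_apply, Pi.add_apply]
    show _ + eig k n φ j g.right.toAdd * (g ^ m).left.toAdd j i = _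
    rw [ih, Finset.sum_range_succ', pow_zero, add_mul, one_mul, add_comm]
    congr 1
    rw [← mul_assoc, Finset.mul_sum]
    simp_rw [← pow_succ']

include hk in
theorem eig_nsmul (j : J) (t : T) (m : ℕ) : eig k n φ j t ^ m = eig k n φ j (m • t) := by
  have : NeZero k := ⟨hk.ne'⟩
  induction m with
  | zero => rw [pow_zero, zero_smul, eig_zero k hk]
  | succ m ih => rw [pow_succ, ih, succ_nsmul, eig_add k hk]

theorem orderOf_dvd (hco : ∀ j, Nat.Coprime k (n j)) (g : Ext k hk n φ r) {o L : ℕ}
    (ho : o • g.right.toAdd = 0) (hL : ∀ j, φ j g.right.toAdd = 0 → n j ∣ L) :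
    orderOf g ∣ o * L := by
  have : NeZero k := ⟨hk.ne'⟩
  refine orderOf_dvd_of_pow_eq_one ?_
  rw [pow_mul]
  have hr : (g ^ o).right = 1 := by
    rw [show (g ^ o).right = g.right ^ o from map_pow SemidirectProduct.rightHom g o]
    exact ho
  apply SemidirectProduct.ext
  · apply Multiplicative.toAdd.injective
    funext j i
    rw [pow_left, hr, toAdd_one, eig_zero k hk, SemidirectProduct.one_left, toAdd_one]
    simp only [one_pow, Finset.sum_const, Finset.card_range, nsmul_eq_mul, mul_one, Pi.zero_apply]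
    rw [pow_left]
    by_cases h : φ j g.right.toAdd = 0
    · obtain ⟨c, hc⟩ := hL j h
      rw [hc, Nat.cast_mul, natCast_self_zero, zero_mul, zero_mul]
    · have h0 : (∑ s ∈ Finset.range o, eig k n φ j g.right.toAdd ^ s) * (eig k n φ j g.right.toAdd - 1) = 0 := by
        rw [geom_sum_mul, eig_nsmul k hk, ho, eig_zero k hk, sub_self]
      rw [(isUnit_eig_sub_one k hk n φ hco h).mul_left_eq_zero.1 h0, zero_mul, mul_zero]
  · rw [show ((g ^ o) ^ L).right = (g ^ o).right ^ L from map_pow SemidirectProduct.rightHom _ L, hr,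
      one_pow]
    rfl

theorem exists_order [Finite T] [Finite J] (hr : 0 < r) (hn : ∀ j, 1 < n j) (hco : ∀ j, Nat.Coprime k (n j))
    (t : T) (hok : addOrderOf t ∣ k) :
    ∃ g : Ext k hk n φ r, addOrderOf t ∣ orderOf g ∧ ∀ j, φ j t = 0 → n j ∣ orderOf g := by
  classical
  have : NeZero k := ⟨hk.ne'⟩
  have : ∀ j, NeZero (n j) := fun j => ⟨(Nat.zero_lt_of_lt (hn j)).ne'⟩
  letI : Fintype J := Fintype.ofFinite J
  let v : Mod k n r := fun j _ => if φ j t = 0 then 1 else 0
  let a : Ext k hk n φ r := SemidirectProduct.inl (Multiplicative.ofAdd v)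
  let b : Ext k hk n φ r := SemidirectProduct.inr (Multiplicative.ofAdd t)
  have hcomm : Commute a b := by
    have h : act k hk n φ r (Multiplicative.ofAdd t) (Multiplicative.ofAdd v) = Multiplicative.ofAdd v := by
      apply Multiplicative.toAdd.injective
      funext j i
      show eig k n φ j t * v j i = v j i
      by_cases hj : φ j t = 0
      · rw [eig_of_eq_zero k n φ hj, one_mul]
      · simp [v, hj]
    have e := SemidirectProduct.inl_aut (φ := act k hk n φ r) (Multiplicative.ofAdd t) (Multiplicative.ofAdd v)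
    rw [h, map_inv] at e
    show a * b = b * a
    calc a * b = (b * a * b⁻¹) * b := congrArg (· * b) e
      _ = b * a := inv_mul_cancel_right _ _
  have hob : orderOf b = addOrderOf t := by
    rw [show b = SemidirectProduct.inr (Multiplicative.ofAdd t) from rfl,
      orderOf_injective _ SemidirectProduct.inr_injective, orderOf_ofAdd_eq_addOrderOf]
  have hoa : orderOf a = addOrderOf v := by
    rw [show a = SemidirectProduct.inl (Multiplicative.ofAdd v) from rfl,
      orderOf_injective _ SemidirectProduct.inl_injective, orderOf_ofAdd_eq_addOrderOf]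
  have hvd : addOrderOf v ∣ ∏ j, n j := by
    refine addOrderOf_dvd_of_nsmul_eq_zero ?_
    funext j i
    obtain ⟨c, hc⟩ := Finset.dvd_prod_of_mem n (Finset.mem_univ j)
    rw [Pi.smul_apply, Pi.smul_apply, nsmul_eq_mul, hc, Nat.cast_mul, natCast_self_zero, zero_mul,
      zero_mul]
    rfl
  have hcop : Nat.Coprime (orderOf a) (orderOf b) := by
    rw [hoa, hob]
    exact (Nat.Coprime.coprime_dvd_left hok
      (Nat.Coprime.prod_right fun j _ => hco j)).symm.coprime_dvd_left hvd
  refine ⟨a * b, ?_, fun j hj => ?_⟩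
  · rw [hcomm.orderOf_mul_eq_mul_orderOf_of_coprime hcop, hob]
    exact dvd_mul_left _ _
  · rw [hcomm.orderOf_mul_eq_mul_orderOf_of_coprime hcop, hoa]
    refine Dvd.dvd.mul_right ?_ _
    have h1 : addOrderOf (v j ⟨0, hr⟩) ∣ addOrderOf v := addOrderOf_dvd_of_nsmul_eq_zero (by
      rw [← Pi.smul_apply, ← Pi.smul_apply, addOrderOf_nsmul_eq_zero]; rfl)
    rwa [show v j ⟨0, hr⟩ = 1 by simp [v, hj], addOrderOf_one (hn j) hk] at h1

theorem card_large [Finite T] [Nonempty J] [Finite J] (hn : ∀ j, 1 < n j) : r < Nat.card (Ext k hk n φ r) := by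
  classical
  have : ∀ j, NeZero (n j) := fun j => ⟨(Nat.zero_lt_of_lt (hn j)).ne'⟩
  letI := Fintype.ofFinite J
  obtain ⟨j₀⟩ := ‹Nonempty J›
  rw [SemidirectProduct.card, Nat.card_congr Multiplicative.toAdd, Nat.card_congr Multiplicative.toAdd,
    Nat.card_pi]
  refine lt_of_lt_of_le ?_ (Nat.le_mul_of_pos_right _ Nat.card_pos)
  refine lt_of_lt_of_le ?_ (Finset.single_le_prod' (fun j _ => Nat.one_le_iff_ne_zero.2 Nat.card_pos.ne')
    (Finset.mem_univ j₀))
  rw [Nat.card_fun, Nat.card_fin]
  exact lt_of_lt_of_le Nat.lt_two_pow_self (Nat.pow_le_pow_left (ModularRoot.one_lt_card (hn j₀) hk) r)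

end Cfsg.Agent.CharModule
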