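import Cfsg.Agent.Lib.Spectrum.CharModule

/-!
Arbitrarily large soluble groups whose element orders are the divisors of the least common multiples of
three of the six numbers `6, 9, 2a, 2b, C, D`.
-/

set_option autoImplicit false

namespace Cfsg.Agent.FiveTypes

open Cfsg.Agent

/-- The six numbers. -/
def mx (a b C D : ℕ) : Fin 6 → ℕ := ![6, 9, 2 * a, 2 * b, C, D]

/-- The numbers allowed as element orders. -/
def allowed (a b C D : ℕ) : Set ℕ :=
  {d | ∃ i j l, d ∣ Nat.lcm (Nat.lcm (mx a b C D i) (mx a b C D j)) (mx a b C D l)}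

/-- The moduli of the seven summands. -/
def md (C D : ℕ) : Fin 7 → ℕ := ![9, 9, C, C, D, D, 3]

/-- The line of the first kind of each summand. -/
def lx : Fin 7 → Fin 3 := ![2, 1, 2, 0, 1, 0, 2]

/-- The line of the second kind of each summand. -/
def ly : Fin 7 → Fin 3 := ![1, 2, 0, 2, 0, 1, 1]

/-- The sign of each summand. -/
def ls : Fin 7 → Fin 3 := ![0, 0, 1, 1, 2, 2, 1]

/-- The type of each summand. -/
def tau : Fin 7 → Fin 6 := ![1, 1, 4, 4, 5, 5, 1]

/-- The two types met by a line. -/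
def pr : Fin 3 → Fin 6 × Fin 6 := ![(4, 5), (1, 5), (1, 4)]

theorem lx_pr : ∀ j, tau j = (pr (lx j)).1 ∨ tau j = (pr (lx j)).2 := by decide

theorem ly_pr : ∀ j, tau j = (pr (ly j)).1 ∨ tau j = (pr (ly j)).2 := by decide

theorem tau_eq : ∀ j j', lx j = lx j' → ly j = ly j' → tau j = tau j' := by decide

theorem md_dvd (a b C D : ℕ) (j : Fin 7) : md C D j ∣ mx a b C D (tau j) := by
  fin_cases j <;> simp [md, mx, tau]

/-- The three functionals on a product of two copies of a group. -/
def func {R : Type} [AddCommGroup R] : Fin 3 → R × R →+ R :=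
  ![AddMonoidHom.fst R R, AddMonoidHom.snd R R, AddMonoidHom.fst R R + AddMonoidHom.snd R R]

/-- An element in the kernel of a functional. -/
def kerElt {R : Type} [Ring R] : Fin 3 → R × R := ![(0, 1), (1, 0), (1, -1)]

theorem func_kerElt {R : Type} [Ring R] (l : Fin 3) : func l (kerElt (R := R) l) = 0 := by
  fin_cases l <;> simp [func, kerElt]

theorem addOrderOf_kerElt (a : ℕ) (l : Fin 3) : a ∣ addOrderOf (kerElt (R := ZMod a) l) := by
  have h1 := ZMod.addOrderOf_one a
  fin_cases l <;> simp only [kerElt, Prod.addOrderOf] <;>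
    simp [addOrderOf_neg, h1, Nat.lcm_self]

theorem func_unique {R : Type} [AddCommGroup R] {x : R × R} (hx : x ≠ 0) :
    ∃ l, ∀ i, func i x = 0 → i = l := by
  by_cases h : ∃ i, func i x = 0
  · obtain ⟨l, hl⟩ := h
    refine ⟨l, fun i hi => ?_⟩
    by_contra hne
    apply hx
    fin_cases l <;> fin_cases i <;> simp [func] at hl hi hne ⊢ <;>
      · ext <;> simp_all
  · exact ⟨0, fun i hi => absurd ⟨i, hi⟩ h⟩

/-- The acting group. -/
abbrev Top (a b : ℕ) : Type := (ZMod a × ZMod a) × (ZMod b × ZMod b) × (Fin 3 → ZMod 2)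

variable {a b C D : ℕ}

/-- The Chinese remainder isomorphism. -/
noncomputable def crt (hab : Nat.Coprime a b) (h2 : Nat.Coprime (a * b) 2) :
    (ZMod a × ZMod b) × ZMod 2 ≃+ ZMod (a * b * 2) :=
  (AddEquiv.prodCongr (ZMod.chineseRemainder hab).symm.toAddEquiv (AddEquiv.refl (ZMod 2))).trans
    (ZMod.chineseRemainder h2).symm.toAddEquiv

/-- The characters. -/
noncomputable def chars (hab : Nat.Coprime a b) (h2 : Nat.Coprime (a * b) 2) (j : Fin 7) :
    Top a b →+ ZMod (a * b * 2) :=
  (crt hab h2).toAddMonoidHom.comp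
    ((((func (lx j)).comp (AddMonoidHom.fst _ _)).prod
      ((func (ly j)).comp ((AddMonoidHom.fst _ _).comp (AddMonoidHom.snd _ _)))).prod
      ((Pi.evalAddMonoidHom (fun _ => ZMod 2) (ls j)).comp
        ((AddMonoidHom.snd _ _).comp (AddMonoidHom.snd _ _))))

theorem chars_eq_zero (hab : Nat.Coprime a b) (h2 : Nat.Coprime (a * b) 2) (j : Fin 7) (t : Top a b) :
    chars hab h2 j t = 0 ↔ func (lx j) t.1 = 0 ∧ func (ly j) t.2.1 = 0 ∧ t.2.2 (ls j) = 0 := by
  simp [chars, Prod.ext_iff, and_assoc]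

theorem zmod_smul {R : Type} [AddCommGroup R] {o : ℕ} (h : ∀ r : R, o • r = 0) {o' : ℕ} (hd : o ∣ o') (r : R) :
    o' • r = 0 := by
  obtain ⟨c, rfl⟩ := hd
  rw [mul_comm, mul_smul, h, smul_zero]

theorem zmod_self_smul {c : ℕ} (r : ZMod c) : c • r = 0 := by
  rw [nsmul_eq_mul, ZMod.natCast_self, zero_mul]

theorem pair_smul {c o : ℕ} {x : ZMod c × ZMod c} (h : x = 0 ∨ c ∣ o) : o • x = 0 := by
  rcases h with rfl | h
  · exact smul_zero _
  · exact Prod.ext (zmod_smul zmod_self_smul h x.1) (zmod_smul zmod_self_smul h x.2)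

set_option maxHeartbeats 2000000 in
/-- The main construction. -/
theorem exists_group (ha : 1 < a) (hb : 1 < b) (hC : 1 < C) (hD : 1 < D) (hab : Nat.Coprime a b)
    (h2 : Nat.Coprime (a * b) 2) (h3 : Nat.Coprime (a * b * 2) 3)
    (hkC : Nat.Coprime (a * b * 2) C) (hkD : Nat.Coprime (a * b * 2) D) (N : ℕ) :
    ∃ (H : Type) (_ : Group H) (_ : Fintype H), N < Fintype.card H ∧
      Set.range (orderOf : H → ℕ) = allowed a b C D := by
  classical
  have hk : 0 < a * b * 2 := by positivity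
  have : NeZero a := ⟨by omega⟩
  have : NeZero b := ⟨by omega⟩
  have h9 : Nat.Coprime (a * b * 2) 9 := h3.pow_right 2
  have hco : ∀ j, Nat.Coprime (a * b * 2) (md C D j) := by
    intro j
    fin_cases j <;> first | exact h9 | exact hkC | exact hkD | exact h3
  have hn : ∀ j, 1 < md C D j := by
    intro j
    fin_cases j <;> simp [md, hC, hD]
  have : ∀ j, NeZero (md C D j) := fun j => ⟨(Nat.zero_lt_of_lt (hn j)).ne'⟩
  let H := CharModule.Ext (a * b * 2) hk (md C D) (chars hab h2) (N + 1)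
  have hfin : Finite H := Finite.of_equiv _ SemidirectProduct.equivProd.symm
  letI : Fintype H := Fintype.ofFinite H
  refine ⟨H, inferInstance, this, ?_, ?_⟩
  · rw [← Nat.card_eq_fintype_card]
    exact (Nat.lt_succ_self N).trans (CharModule.card_large (a * b * 2) hk (md C D) (chars hab h2) (N + 1) hn)
  refine Set.Subset.antisymm ?_ ?_
  · -- every order is allowed
    rintro _ ⟨g, rfl⟩
    set t : Top a b := g.right.toAdd with ht
    have key : ∀ (o : ℕ) (i j l : Fin 6), o ∣ a * b * 2 →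
        (t.1 = 0 ∨ a ∣ o) → (t.2.1 = 0 ∨ b ∣ o) → (t.2.2 = 0 ∨ 2 ∣ o) →
        o ∣ Nat.lcm (Nat.lcm (mx a b C D i) (mx a b C D j)) (mx a b C D l) →
        (∀ c, chars hab h2 c t = 0 →
          md C D c ∣ Nat.lcm (Nat.lcm (mx a b C D i) (mx a b C D j)) (mx a b C D l)) →
        orderOf g ∈ allowed a b C D := by
      intro o i j l hok h1 h1' h1'' ho hc
      have hsm : o • t = 0 := by
        refine Prod.ext (pair_smul h1) (Prod.ext (pair_smul h1') ?_)
        rcases h1'' with h | h
        · show o • t.2.2 = 0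
          rw [h, smul_zero]
        · funext s
          exact zmod_smul zmod_self_smul h _
      let S : Finset (Fin 7) := Finset.univ.filter fun c => chars hab h2 c t = 0
      refine ⟨i, j, l, (CharModule.orderOf_dvd (a * b * 2) hk (md C D) (chars hab h2) (N + 1) hco g hsm
        (L := S.lcm (md C D)) fun c hc' => Finset.dvd_lcm (Finset.mem_filter.2 ⟨Finset.mem_univ c, hc'⟩)).trans ?_⟩
      refine Nat.Coprime.mul_dvd_of_dvd_of_dvd ?_ ho (Finset.lcm_dvd fun c hc' => hc c (Finset.mem_filter.1 hc').2)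
      refine Nat.Coprime.coprime_dvd_left hok ?_
      refine Nat.Coprime.coprime_dvd_right (Finset.lcm_dvd fun c _ => Finset.dvd_prod_of_mem _ (Finset.mem_univ c))
        (Nat.Coprime.prod_right fun c _ => hco c)
    have l1 : ∀ i j l : Fin 6, mx a b C D i ∣ Nat.lcm (Nat.lcm (mx a b C D i) (mx a b C D j)) (mx a b C D l) :=
      fun i j l => (Nat.dvd_lcm_left _ _).trans (Nat.dvd_lcm_left _ _)
    have l2 : ∀ i j l : Fin 6, mx a b C D j ∣ Nat.lcm (Nat.lcm (mx a b C D i) (mx a b C D j)) (mx a b C D l) :=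
      fun i j l => (Nat.dvd_lcm_right _ _).trans (Nat.dvd_lcm_left _ _)
    have l3 : ∀ i j l : Fin 6, mx a b C D l ∣ Nat.lcm (Nat.lcm (mx a b C D i) (mx a b C D j)) (mx a b C D l) :=
      fun i j l => Nat.dvd_lcm_right _ _
    have htau : ∀ (i j l : Fin 6) (c : Fin 7), tau c = i ∨ tau c = j ∨ tau c = l →
        md C D c ∣ Nat.lcm (Nat.lcm (mx a b C D i) (mx a b C D j)) (mx a b C D l) := by
      rintro i j l c (rfl | rfl | rfl)
      exacts [(md_dvd a b C D c).trans (l1 _ _ _), (md_dvd a b C D c).trans (l2 _ _ _),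
        (md_dvd a b C D c).trans (l3 _ _ _)]
    by_cases hx : t.1 = 0
    · by_cases hy : t.2.1 = 0
      · by_cases he : t.2.2 = 0
        · refine key 1 1 4 5 (one_dvd _) (Or.inl hx) (Or.inl hy) (Or.inl he) (one_dvd _) fun c _ =>
            htau 1 4 5 c ?_
          fin_cases c <;> simp [tau]
        · have h2o : 2 ∣ a * b * 2 := dvd_mul_left _ _
          have hsix : ∀ i j : Fin 6, 2 ∣ Nat.lcm (Nat.lcm (mx a b C D 0) (mx a b C D i)) (mx a b C D j) :=
            fun i j => (show 2 ∣ mx a b C D 0 by simp [mx]).trans (l1 _ _ _)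
          by_cases e0 : t.2.2 0 = 0
          · by_cases e1 : t.2.2 1 = 0
            · have e2 : t.2.2 2 ≠ 0 := fun e2 => he (by funext s; fin_cases s <;> assumption)
              refine key 2 0 1 4 h2o (Or.inl hx) (Or.inl hy) (Or.inr dvd_rfl) (hsix _ _) fun c hc => ?_
              have hs := ((chars_eq_zero hab h2 c t).1 hc).2.2
              refine htau 0 1 4 c ?_
              fin_cases c <;> simp [tau, ls] at hs ⊢ <;> exact e2 hs
            · refine key 2 0 1 5 h2o (Or.inl hx) (Or.inl hy) (Or.inr dvd_rfl) (hsix _ _) fun c hc => ?_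
              have hs := ((chars_eq_zero hab h2 c t).1 hc).2.2
              refine htau 0 1 5 c ?_
              fin_cases c <;> simp [tau, ls] at hs ⊢ <;> exact e1 hs
          · refine key 2 0 4 5 h2o (Or.inl hx) (Or.inl hy) (Or.inr dvd_rfl) (hsix _ _) fun c hc => ?_
            have hs := ((chars_eq_zero hab h2 c t).1 hc).2.2
            by_cases hc6 : c = 6
            · subst hc6
              exact (show md C D 6 ∣ mx a b C D 0 by simp [md, mx]).trans (l1 _ _ _)
            · refine htau 0 4 5 c ?_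
              fin_cases c <;> simp [tau, ls] at hs hc6 ⊢ <;> exact e0 hs
      · obtain ⟨l, hl⟩ := func_unique hy
        refine key (b * 2) 3 (pr l).1 (pr l).2 ⟨a, by ring⟩ (Or.inl hx) (Or.inr (dvd_mul_right _ _))
          (Or.inr (dvd_mul_left _ _)) ?_ fun c hc => ?_
        · exact (show b * 2 ∣ mx a b C D 3 by simp [mx, mul_comm]).trans (l1 _ _ _)
        · have hc' := hl _ ((chars_eq_zero hab h2 c t).1 hc).2.1
          exact htau _ _ _ c (Or.inr (hc' ▸ ly_pr c))
    · obtain ⟨l, hl⟩ := func_unique hx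
      by_cases hy : t.2.1 = 0
      · refine key (a * 2) 2 (pr l).1 (pr l).2 ⟨b, by ring⟩ (Or.inr (dvd_mul_right _ _)) (Or.inl hy)
          (Or.inr (dvd_mul_left _ _)) ?_ fun c hc => ?_
        · exact (show a * 2 ∣ mx a b C D 2 by simp [mx, mul_comm]).trans (l1 _ _ _)
        · have hc' := hl _ ((chars_eq_zero hab h2 c t).1 hc).1
          exact htau _ _ _ c (Or.inr (hc' ▸ lx_pr c))
      · obtain ⟨l', hl'⟩ := func_unique hy
        have hab2 : ∀ i : Fin 6, a * b * 2 ∣ Nat.lcm (Nat.lcm (mx a b C D 2) (mx a b C D 3)) (mx a b C D i) := by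
          intro i
          have e2 : 2 * a ∣ Nat.lcm (Nat.lcm (mx a b C D 2) (mx a b C D 3)) (mx a b C D i) := l1 2 3 i
          have e3 : 2 * b ∣ Nat.lcm (Nat.lcm (mx a b C D 2) (mx a b C D 3)) (mx a b C D i) := l2 2 3 i
          exact Nat.Coprime.mul_dvd_of_dvd_of_dvd h2
            (hab.mul_dvd_of_dvd_of_dvd ((dvd_mul_left _ _).trans e2) ((dvd_mul_left _ _).trans e3))
            ((dvd_mul_right _ _).trans e2)
        by_cases hex : ∃ c, chars hab h2 c t = 0
        · obtain ⟨c₀, hc₀⟩ := hex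
          refine key (a * b * 2) 2 3 (tau c₀) dvd_rfl (Or.inr ⟨b * 2, by ring⟩) (Or.inr ⟨a * 2, by ring⟩)
            (Or.inr (dvd_mul_left _ _)) (hab2 _) fun c hc => htau _ _ _ c (Or.inr (Or.inr ?_))
          obtain ⟨h1, h1', -⟩ := (chars_eq_zero hab h2 c t).1 hc
          obtain ⟨g1, g1', -⟩ := (chars_eq_zero hab h2 c₀ t).1 hc₀
          exact tau_eq c c₀ ((hl _ h1).trans (hl _ g1).symm) ((hl' _ h1').trans (hl' _ g1').symm)
        · exact key (a * b * 2) 2 3 3 dvd_rfl (Or.inr ⟨b * 2, by ring⟩) (Or.inr ⟨a * 2, by ring⟩)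
            (Or.inr (dvd_mul_left _ _)) (hab2 _) fun c hc => absurd ⟨c, hc⟩ hex
  · -- every allowed number is an order
    rintro d ⟨i, j, l, hd⟩
    suffices ∃ g : H, mx a b C D i ∣ orderOf g ∧ mx a b C D j ∣ orderOf g ∧ mx a b C D l ∣ orderOf g by
      obtain ⟨g, g1, g2, g3⟩ := this
      have hdg : d ∣ orderOf g := hd.trans (Nat.lcm_dvd (Nat.lcm_dvd g1 g2) g3)
      exact ⟨g ^ (orderOf g / d), orderOf_pow_orderOf_div (orderOf_pos g).ne' hdg⟩
    -- the witnesses
    have wit : ∀ t : Top a b, ∃ g : H, addOrderOf t ∣ orderOf g ∧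
        ∀ c, chars hab h2 c t = 0 → md C D c ∣ orderOf g := by
      intro t
      refine CharModule.exists_order (a * b * 2) hk (md C D) (chars hab h2) (N + 1) (Nat.succ_pos N) hn hco t
        (addOrderOf_dvd_of_nsmul_eq_zero ?_)
      refine Prod.ext (pair_smul (Or.inr ⟨b * 2, by ring⟩)) (Prod.ext (pair_smul (Or.inr ⟨a * 2, by ring⟩)) ?_)
      funext s
      exact zmod_smul zmod_self_smul (dvd_mul_left _ _) _
    let e : Fin 3 → Fin 3 → ZMod 2 := fun s => Pi.single s 1
    let ts : Fin 11 → Top a b := ![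
      (kerElt 2, 0, e 2), (kerElt 1, 0, e 1), (kerElt 0, 0, e 0),
      (0, kerElt 2, e 2), (0, kerElt 1, e 1), (0, kerElt 0, e 0),
      (kerElt 2, kerElt 1, e 2), (kerElt 2, kerElt 0, e 2), (kerElt 1, kerElt 0, e 1),
      (0, 0, 0), (0, 0, e 0)]
    choose gs hg1 hg2 using fun w => wit (ts w)
    have hta : ∀ w, a ∣ addOrderOf (ts w).1 → a ∣ orderOf (gs w) := fun w h =>
      (h.trans (addOrderOf_map_dvd (AddMonoidHom.fst _ _) (ts w))).trans (hg1 w)
    have htb : ∀ w, b ∣ addOrderOf (ts w).2.1 → b ∣ orderOf (gs w) := fun w h =>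
      (h.trans (addOrderOf_map_dvd ((AddMonoidHom.fst _ _).comp (AddMonoidHom.snd _ _)) (ts w))).trans (hg1 w)
    have ht2 : ∀ w s, (ts w).2.2 s = 1 → 2 ∣ orderOf (gs w) := fun w s h => by
      have := (addOrderOf_map_dvd ((Pi.evalAddMonoidHom (fun _ => ZMod 2) s).comp
        ((AddMonoidHom.snd _ _).comp (AddMonoidHom.snd _ _))) (ts w)).trans (hg1 w)
      rwa [show ((Pi.evalAddMonoidHom (fun _ => ZMod 2) s).comp
        ((AddMonoidHom.snd _ _).comp (AddMonoidHom.snd _ _))) (ts w) = 1 from h, ZMod.addOrderOf_one] at this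
    -- which numbers divide which witness orders
    let tbl : Fin 11 → List (Fin 6) := ![[0, 1, 2, 4], [0, 1, 2, 5], [2, 4, 5], [0, 1, 3, 4], [0, 1, 3, 5],
      [3, 4, 5], [0, 1, 2, 3], [2, 3, 4], [2, 3, 5], [1, 4, 5], [0, 4, 5]]
    have cover : ∀ i j l : Fin 6, ∃ w, i ∈ tbl w ∧ j ∈ tbl w ∧ l ∈ tbl w := by decide
    have nine : ∀ w, (∃ c, md C D c = 9 ∧ chars hab h2 c (ts w) = 0) → 9 ∣ orderOf (gs w) := by
      rintro w ⟨c, hc9, hc⟩; exact hc9 ▸ hg2 w c hc
    have sound : ∀ w, ∀ i ∈ tbl w, mx a b C D i ∣ orderOf (gs w) := by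
      intro w i hi
      fin_cases i
      · -- six
        show 6 ∣ _
        refine Nat.Coprime.mul_dvd_of_dvd_of_dvd (show Nat.Coprime 2 3 by norm_num) ?_ ?_
        · fin_cases w <;> simp [tbl] at hi <;>
            first
            | (refine ht2 _ 2 ?_; simp [ts, e]; done)
            | (refine ht2 _ 1 ?_; simp [ts, e]; done)
            | (refine ht2 _ 0 ?_; simp [ts, e]; done)
        · by_cases hw : w = 10
          · subst hw
            exact hg2 10 6 ((chars_eq_zero hab h2 _ _).2 (by simp [ts, e, lx, ly, ls]))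
          · refine (show 3 ∣ 9 by norm_num).trans (nine w ?_)
            fin_cases w <;> simp [tbl] at hi hw <;>
              first
              | (refine ⟨0, rfl, (chars_eq_zero hab h2 _ _).2 ?_⟩; simp [ts, e, lx, ly, ls, func_kerElt]; done)
              | (refine ⟨1, rfl, (chars_eq_zero hab h2 _ _).2 ?_⟩; simp [ts, e, lx, ly, ls, func_kerElt]; done)
      · -- nine
        refine nine w ?_
        fin_cases w <;> simp [tbl] at hi <;>
          first
          | (refine ⟨0, rfl, (chars_eq_zero hab h2 _ _).2 ?_⟩; simp [ts, e, lx, ly, ls, func_kerElt]; done)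
          | (refine ⟨1, rfl, (chars_eq_zero hab h2 _ _).2 ?_⟩; simp [ts, e, lx, ly, ls, func_kerElt]; done)
      · -- twice a
        show 2 * a ∣ _
        refine Nat.Coprime.mul_dvd_of_dvd_of_dvd (Nat.Coprime.coprime_dvd_left (dvd_mul_right a b) h2).symm ?_ ?_
        · fin_cases w <;> simp [tbl] at hi <;>
            first
            | (refine ht2 _ 2 ?_; simp [ts, e]; done)
            | (refine ht2 _ 1 ?_; simp [ts, e]; done)
            | (refine ht2 _ 0 ?_; simp [ts, e]; done)
        · refine hta w ?_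
          fin_cases w <;> simp [tbl] at hi <;> exact addOrderOf_kerElt a _
      · -- twice b
        show 2 * b ∣ _
        refine Nat.Coprime.mul_dvd_of_dvd_of_dvd (Nat.Coprime.coprime_dvd_left (dvd_mul_left b a) h2).symm ?_ ?_
        · fin_cases w <;> simp [tbl] at hi <;>
            first
            | (refine ht2 _ 2 ?_; simp [ts, e]; done)
            | (refine ht2 _ 1 ?_; simp [ts, e]; done)
            | (refine ht2 _ 0 ?_; simp [ts, e]; done)
        · refine htb w ?_
          fin_cases w <;> simp [tbl] at hi <;> exact addOrderOf_kerElt b _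
      · fin_cases w <;> simp [tbl] at hi <;>
          first
          | (refine hg2 _ 2 ((chars_eq_zero hab h2 _ _).2 ?_); simp [ts, e, lx, ly, ls, func_kerElt]; done)
          | (refine hg2 _ 3 ((chars_eq_zero hab h2 _ _).2 ?_); simp [ts, e, lx, ly, ls, func_kerElt]; done)
      · fin_cases w <;> simp [tbl] at hi <;>
          first
          | (refine hg2 _ 4 ((chars_eq_zero hab h2 _ _).2 ?_); simp [ts, e, lx, ly, ls, func_kerElt]; done)
          | (refine hg2 _ 5 ((chars_eq_zero hab h2 _ _).2 ?_); simp [ts, e, lx, ly, ls, func_kerElt]; done)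
    obtain ⟨w, w1, w2, w3⟩ := cover i j l
    exact ⟨gs w, sound w i w1, sound w j w2, sound w l w3⟩

end Cfsg.Agent.FiveTypes
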