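import Mathlib

/-!
A finite ring of given characteristic with a root of unity all whose non-trivial powers differ from one
by a unit, and the orders of the elements of a semidirect product built from such roots.
-/

set_option autoImplicit false

open Polynomial

namespace Cfsg.Agent.ModularRoot

/-- The ring of residues modulo `n` with a primitive `k`-th root of unity adjoined. -/
abbrev RootRing (n k : ℕ) : Type := AdjoinRoot (cyclotomic k (ZMod n))

variable {n k : ℕ}

instance rootRing_finite [NeZero n] : Finite (RootRing n k) := by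
  have := (cyclotomic.monic k (ZMod n)).finite_adjoinRoot
  exact Module.finite_of_finite (ZMod n)

theorem root_pow : (AdjoinRoot.root (cyclotomic k (ZMod n)) : RootRing n k) ^ k = 1 := by
  obtain ⟨c, hc⟩ := cyclotomic.dvd_X_pow_sub_one k (ZMod n)
  have h := congrArg (AdjoinRoot.mk (cyclotomic k (ZMod n))) hc
  rw [map_mul, AdjoinRoot.mk_self, zero_mul, map_sub, map_pow, AdjoinRoot.mk_X, map_one, sub_eq_zero] at h
  exact h

theorem natCast_self_zero : (n : RootRing n k) = 0 := by
  rw [← map_natCast (AdjoinRoot.of (cyclotomic k (ZMod n))), ZMod.natCast_self, map_zero]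

theorem of_injective (hn : 1 < n) (hk : 0 < k) :
    Function.Injective (AdjoinRoot.of (cyclotomic k (ZMod n))) := by
  have : Fact (1 < n) := ⟨hn⟩
  refine (injective_iff_map_eq_zero _).2 fun a ha => ?_
  have hd : cyclotomic k (ZMod n) ∣ C a := AdjoinRoot.mk_eq_zero.1 (by rw [AdjoinRoot.mk_C]; exact ha)
  rw [← modByMonic_eq_zero_iff_dvd (cyclotomic.monic k (ZMod n)),
    (modByMonic_eq_self_iff (cyclotomic.monic k (ZMod n))).2 ?_] at hd
  · exact C_eq_zero.1 hd
  · rw [degree_cyclotomic]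
    exact degree_C_le.trans_lt (by exact_mod_cast Nat.totient_pos.2 hk)

theorem one_lt_card (hn : 1 < n) (hk : 0 < k) : 1 < Nat.card (RootRing n k) := by
  have : Fact (1 < n) := ⟨hn⟩
  haveI : NeZero n := ⟨by omega⟩
  exact Finite.one_lt_card_iff_nontrivial.2 ((of_injective hn hk).nontrivial)

theorem addOrderOf_one (hn : 1 < n) (hk : 0 < k) : addOrderOf (1 : RootRing n k) = n := by
  rw [← map_one (AdjoinRoot.of (cyclotomic k (ZMod n)))]
  exact (addOrderOf_injective (AdjoinRoot.of (cyclotomic k (ZMod n))).toAddMonoidHom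
    (of_injective hn hk) 1).trans (ZMod.addOrderOf_one n)

/-- The root as a unit. -/
noncomputable def rootUnit (n k : ℕ) (hk : 0 < k) : (RootRing n k)ˣ :=
  Units.ofPowEqOne _ k root_pow hk.ne'

theorem coe_rootUnit (hk : 0 < k) :
    ((rootUnit n k hk : (RootRing n k)ˣ) : RootRing n k) = AdjoinRoot.root (cyclotomic k (ZMod n)) := rfl

/-- If `k` is prime to `n`, a power of the root other than one differs from one by a unit. -/
theorem isUnit_pow_sub_one (hk : 0 < k) (hco : Nat.Coprime k n) {i : ℕ} (hi : ¬ k ∣ i) :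
    IsUnit ((AdjoinRoot.root (cyclotomic k (ZMod n)) : RootRing n k) ^ i - 1) := by
  set u := (AdjoinRoot.root (cyclotomic k (ZMod n)) : RootRing n k) with hu
  have hd : Nat.gcd i k ∣ k := Nat.gcd_dvd_right _ _
  have hdl : Nat.gcd i k ∈ k.properDivisors :=
    Nat.mem_properDivisors.2 ⟨hd, lt_of_le_of_ne (Nat.le_of_dvd hk hd)
      fun e => hi (e ▸ Nat.gcd_dvd_left i k)⟩
  obtain ⟨e, he⟩ := hd
  have he0 : 0 < Nat.gcd i k := Nat.gcd_pos_of_pos_right _ hk
  -- the geometric sum of `u ^ d` vanishes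
  obtain ⟨c, hc⟩ := X_pow_sub_one_mul_cyclotomic_dvd_X_pow_sub_one_of_dvd (ZMod n) hdl
  have hgeo : (X : (ZMod n)[X]) ^ k - 1 =
      (X ^ Nat.gcd i k - 1) * ∑ j ∈ Finset.range e, (X ^ Nat.gcd i k) ^ j := by
    rw [mul_comm, geom_sum_mul, ← pow_mul, ← he]
  have hcancel : (∑ j ∈ Finset.range e, ((X : (ZMod n)[X]) ^ Nat.gcd i k) ^ j) =
      cyclotomic k (ZMod n) * c := by
    refine ((monic_X_pow_sub_C (1 : ZMod n) he0.ne').isRegular.left) ?_
    simp only [map_one]
    rw [← hgeo, hc, mul_assoc]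
  have hsum : ∑ j ∈ Finset.range e, (u ^ Nat.gcd i k) ^ j = 0 := by
    have h := congrArg (AdjoinRoot.mk (cyclotomic k (ZMod n))) hcancel
    rw [map_mul, AdjoinRoot.mk_self, zero_mul, map_sum] at h
    simpa [hu] using h
  -- hence the integer `e` is a multiple of `u ^ d - 1`
  have hev : u ^ Nat.gcd i k - 1 ∣ ((e : ℕ) : RootRing n k) := by
    have h : u ^ Nat.gcd i k - 1 ∣ ∑ j ∈ Finset.range e, ((u ^ Nat.gcd i k) ^ j - 1 ^ j) :=
      Finset.dvd_sum fun j _ => sub_dvd_pow_sub_pow _ _ _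
    rw [Finset.sum_sub_distrib, hsum] at h
    simpa using h
  have heu : IsUnit ((e : ℕ) : RootRing n k) := by
    have hcoe : Nat.Coprime e n := Nat.Coprime.coprime_dvd_left ⟨Nat.gcd i k, by rw [mul_comm]; exact he⟩ hco
    rw [← map_natCast (AdjoinRoot.of (cyclotomic k (ZMod n)))]
    exact ((ZMod.isUnit_iff_coprime e n).2 hcoe).map _
  -- and `u ^ i - 1` divides `u ^ d - 1`
  have hdvd : u ^ i - 1 ∣ u ^ Nat.gcd i k - 1 := by
    rcases Nat.eq_zero_or_pos i with rfl | hi0
    · exact absurd (dvd_zero k) hi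
    obtain ⟨a, -, ha⟩ := Nat.exists_mul_mod_eq_gcd (n := i) (k := k) (Nat.lt_of_le_of_ne
      (Nat.le_of_dvd hk (Nat.gcd_dvd_right i k)) (fun h => hi (h ▸ Nat.gcd_dvd_left i k)))
    rw [show u ^ Nat.gcd i k = (u ^ i) ^ a by
      rw [← pow_mul, ← ha, ← pow_eq_pow_mod _ (root_pow (n := n) (k := k))]]
    exact sub_one_dvd_pow_sub_one _ _
  exact isUnit_of_dvd_unit (hdvd.trans hev) heu

end Cfsg.Agent.ModularRoot
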